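import Groth.Agent.DimFormula.Scheme
import Groth.Agent.S0555
import Mathlib

/-!
# The Cartier equality for finitely generated field extensions
-/

set_option linter.style.haveILetI false

universe u

open TensorProduct IsLocalRing

namespace Groth.Agent.CartierEq4

variable (K L : Type u) [Field K] [Field L] [Algebra K L] [Algebra.EssFiniteType K L]

theorem exists_presentation :
    ∃ (n : ℕ) (Q : Ideal (MvPolynomial (Fin n) K)) (_ : Q.IsPrime) (π : Localization.AtPrime Q →ₐ[K] L),
      Function.Surjective π ∧ (Q.height : Cardinal.{u}) + Algebra.trdeg K L = n := by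
  obtain ⟨n, f₀, hf₀⟩ := Algebra.FiniteType.iff_quotient_mvPolynomial''.mp
    (inferInstance : Algebra.FiniteType K (Algebra.EssFiniteType.subalgebra K L))
  let f : MvPolynomial (Fin n) K →ₐ[K] L := (Algebra.EssFiniteType.subalgebra K L).val.comp f₀
  let Q : Ideal (MvPolynomial (Fin n) K) := RingHom.ker f
  haveI hQ : Q.IsPrime := RingHom.ker_isPrime f
  let π : Localization.AtPrime Q →ₐ[K] L := IsLocalization.liftAlgHom (M := Q.primeCompl) (f := f) fun x =>
    isUnit_iff_ne_zero.2 x.2
  have hπ : Function.Surjective π := by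
    intro x
    obtain ⟨b, ⟨s, hs⟩, rfl⟩ := IsLocalization.exists_mk'_eq (Algebra.EssFiniteType.submonoid K L) x
    obtain ⟨b, rfl⟩ := hf₀ b
    obtain ⟨s, rfl⟩ := hf₀ s
    have hu : IsUnit (f s) := hs
    refine ⟨IsLocalization.mk' (M := Q.primeCompl) _ b ⟨s, fun h => hu.ne_zero (RingHom.mem_ker.1 h)⟩, ?_⟩
    rw [IsLocalization.eq_mk'_iff_mul_eq]
    show π _ * f s = f b
    have he : ∀ c, π (algebraMap _ (Localization.AtPrime Q) c) = f c := fun c => IsLocalization.lift_eq _ c
    have h := congrArg π (IsLocalization.mk'_spec (Localization.AtPrime Q) b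
      (⟨s, fun h => hu.ne_zero (RingHom.mem_ker.1 h)⟩ : Q.primeCompl))
    rwa [map_mul, he, he] at h
  refine ⟨n, Q, hQ, π, hπ, ?_⟩
  haveI : Q.LiesOver (⊥ : Ideal K) := ⟨by
    rw [Ideal.under_def]
    exact ((Ideal.eq_bot_or_top _).resolve_right (Ideal.comap_ne_top _ hQ.ne_top)).symm⟩
  have h := Groth.Agent.S0555.result K (DimFormula.isUniversallyCatenary_field K) (MvPolynomial (Fin n) K) ⊥ Q
  rw [show ((⊥ : Ideal K).height) = 0 by rw [Ideal.height_bot], MvPolynomial.trdeg_of_isDomain] at h
  simp only [Cardinal.mk_fin, Cardinal.lift_natCast, Cardinal.ofENat_zero, zero_add] at h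
  rw [← h]
  congr 1
  -- trdeg over `K ⧸ ⊥` agrees with trdeg over `K`
  let φ : MvPolynomial (Fin n) K ⧸ Q →ₐ[K] L := Ideal.Quotient.liftₐ Q f fun a ha => ha
  have hφ : Function.Injective φ := RingHom.lift_injective_of_ker_le_ideal _ _ le_rfl
  letI : Algebra (MvPolynomial (Fin n) K ⧸ Q) L := φ.toRingHom.toAlgebra
  haveI : IsScalarTower K (MvPolynomial (Fin n) K ⧸ Q) L := .of_algebraMap_eq fun c => (φ.commutes c).symm
  haveI : FaithfulSMul (MvPolynomial (Fin n) K ⧸ Q) L := (faithfulSMul_iff_algebraMap_injective _ _).2 hφ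
  haveI : Algebra.IsAlgebraic (MvPolynomial (Fin n) K ⧸ Q) L := ⟨fun x => by
    obtain ⟨b, ⟨s, hs⟩, rfl⟩ := IsLocalization.exists_mk'_eq (Algebra.EssFiniteType.submonoid K L) x
    obtain ⟨b, rfl⟩ := hf₀ b
    obtain ⟨s, rfl⟩ := hf₀ s
    have hne : f s ≠ 0 := (show IsUnit (f s) from hs).ne_zero
    refine ⟨Polynomial.C (Ideal.Quotient.mk Q s) * Polynomial.X - Polynomial.C (Ideal.Quotient.mk Q b), fun h0 => ?_, ?_⟩
    · have := congrArg (Polynomial.coeff · 1) h0
      simp only [Polynomial.coeff_sub, Polynomial.coeff_C_mul, Polynomial.coeff_X_one, mul_one,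
        Polynomial.coeff_C_succ, sub_zero, Polynomial.coeff_zero] at this
      exact hne (Ideal.Quotient.eq_zero_iff_mem.1 this)
    · simp only [map_sub, map_mul, Polynomial.aeval_X, Polynomial.aeval_C]
      show f s * _ - f b = 0
      rw [sub_eq_zero]
      exact IsLocalization.mk'_spec' (M := Algebra.EssFiniteType.submonoid K L) L (f₀ b) ⟨f₀ s, hs⟩⟩
  have h2 := lift_trdeg_add_eq K (MvPolynomial (Fin n) K ⧸ Q) L
  rw [trdeg_eq_zero (R := MvPolynomial (Fin n) K ⧸ Q) (A := L)] at h2
  have h3 := lift_trdeg_add_eq K (K ⧸ (⊥ : Ideal K)) (MvPolynomial (Fin n) K ⧸ Q)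
  haveI : Algebra.IsIntegral K (K ⧸ (⊥ : Ideal K)) :=
    Algebra.IsIntegral.of_surjective (Ideal.Quotient.mkₐ K (⊥ : Ideal K)) Ideal.Quotient.mk_surjective
  rw [trdeg_eq_zero (R := K) (A := K ⧸ (⊥ : Ideal K))] at h3
  simp only [Cardinal.lift_id, add_zero, zero_add] at h2 h3
  rw [← h2, h3]

theorem finrank_kaehler_eq :
    Module.Finite L (Ω[L⁄K]) ∧ Module.Finite L (Algebra.H1Cotangent K L) ∧
      Module.finrank L (Ω[L⁄K]) = Cardinal.toNat (Algebra.trdeg K L) + Module.finrank L (Algebra.H1Cotangent K L) := by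
  obtain ⟨n, Q, hQ, π, hπ, hdim⟩ := exists_presentation K L
  let R := Localization.AtPrime Q
  letI : Algebra R L := π.toRingHom.toAlgebra
  haveI : IsScalarTower K R L := .of_algebraMap_eq fun c => (π.commutes c).symm
  haveI : Algebra.FormallyEtale (MvPolynomial (Fin n) K) R := .of_isLocalization Q.primeCompl
  haveI : Algebra.FormallySmooth K R := .comp _ (MvPolynomial (Fin n) K) _
  haveI : IsRegularLocalRing R := inferInstanceAs (IsRegularLocalRing (Localization.AtPrime Q))
  let P : Algebra.Extension K L := { Ring := R, σ := _, algebraMap_σ := Function.surjInv_eq hπ }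
  haveI : Algebra.FormallySmooth K P.Ring := ‹Algebra.FormallySmooth K R›
  -- the space of differentials
  let bΩ : Module.Basis (Fin n) R (Ω[R⁄K]) :=
    ((KaehlerDifferential.mvPolynomialBasis K (Fin n)).baseChange R).map
      (KaehlerDifferential.tensorKaehlerEquivOfFormallyEtale K (MvPolynomial (Fin n) K) R)
  haveI : Module.Finite L P.CotangentSpace := Module.Finite.of_basis (bΩ.baseChange L)
  have hcs : Module.finrank L P.CotangentSpace = n := by
    rw [Module.finrank_eq_card_basis (bΩ.baseChange L), Fintype.card_fin]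
  -- the conormal space
  have hker : P.ker = maximalIdeal R :=
    IsLocalRing.eq_maximalIdeal (RingHom.ker_isMaximal_of_surjective (algebraMap R L) hπ)
  haveI : Module.Finite R P.ker := Module.Finite.of_fg (IsNoetherian.noetherian _)
  haveI : Module.Finite P.Ring P.Cotangent := .of_surjective _ Algebra.Extension.Cotangent.mk_surjective
  haveI : Module.Finite L P.Cotangent := Module.Finite.of_restrictScalars_finite P.Ring _ _
  have hc : Module.finrank L P.Cotangent = (ringKrullDim R).unbotD 0 := by
    have h1 : Module.finrank (ResidueField R) (CotangentSpace R) = (ringKrullDim R).unbotD 0 := by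
      rw [← (IsRegularLocalRing.iff_finrank_cotangentSpace R).1 inferInstance]
      rfl
    let e : ResidueField R ≃+* L := (Ideal.quotEquivOfEq (show maximalIdeal R = RingHom.ker (algebraMap R L) from hker.symm)).trans
      (RingHom.quotientKerEquivOfSurjective hπ)
    let j : CotangentSpace R ≃+ P.Cotangent :=
      ((Ideal.Cotangent.equivOfEq _ _ hker.symm).toAddEquiv).trans (Algebra.Extension.cotangentEquivCotangentKer (P := P)).symm.toAddEquiv
    have hj : ∀ (r : ResidueField R) (m : CotangentSpace R), j (r • m) = e r • j m := by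
      intro r m
      obtain ⟨r, rfl⟩ := residue_surjective r
      have h2 : residue R r • m = r • m := algebraMap_smul (ResidueField R) r m
      rw [h2, show e (residue R r) = algebraMap R L r from rfl]
      show (Algebra.Extension.cotangentEquivCotangentKer (P := P)).symm ((Ideal.Cotangent.equivOfEq _ _ hker.symm) (r • m)) = _
      rw [map_smul, map_smul]
      exact (algebraMap_smul L r _).symm
    have h3 := rank_eq_of_equiv_equiv (R := ResidueField R) (R' := L) e j e.bijective hj
    rw [show Module.finrank L P.Cotangent = Module.finrank (ResidueField R) (CotangentSpace R) from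
      congrArg Cardinal.toNat h3.symm]
    exact h1
  have hh : ((ringKrullDim R).unbotD 0 : ℕ∞) = Q.height := by
    rw [IsLocalization.AtPrime.ringKrullDim_eq_height Q R]; rfl
  -- rank-nullity
  have h1 := P.cotangentComplex.finrank_range_add_finrank_ker
  have h2 := P.toKaehler.finrank_range_add_finrank_ker
  rw [LinearMap.range_eq_top.2 P.toKaehler_surjective, finrank_top] at h2
  rw [← P.exact_cotangentComplex_toKaehler.linearMap_ker_eq] at h1
  haveI : Module.Finite L (LinearMap.ker P.cotangentComplex) := inferInstance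
  haveI : Module.Finite L P.H1Cotangent := ‹Module.Finite L (LinearMap.ker P.cotangentComplex)›
  have e1 := P.equivH1CotangentOfFormallySmooth.finrank_eq
  haveI : Module.Finite L (Algebra.H1Cotangent K L) := Module.Finite.equiv P.equivH1CotangentOfFormallySmooth
  haveI : Module.Finite L (Ω[L⁄K]) := Module.Finite.of_surjective P.toKaehler P.toKaehler_surjective
  refine ⟨inferInstance, inferInstance, ?_⟩
  have e2 : Module.finrank L (LinearMap.ker P.cotangentComplex) = Module.finrank L (Algebra.H1Cotangent K L) := e1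
  rw [e2] at h1
  rw [hcs] at h2
  rw [← hc] at hh
  rw [← hh] at hdim
  simp only [Cardinal.ofENat_nat] at hdim
  have hd : Module.finrank L P.Cotangent + Cardinal.toNat (Algebra.trdeg K L) = n := by
    have hlt : Algebra.trdeg K L < Cardinal.aleph0 :=
      lt_of_le_of_lt (le_of_le_of_eq le_add_self hdim) (Cardinal.natCast_lt_aleph0)
    obtain ⟨t, ht⟩ := Cardinal.lt_aleph0.1 hlt
    rw [ht, Cardinal.toNat_natCast]
    rw [ht] at hdim
    exact_mod_cast hdim
  omega

end Groth.Agent.CartierEq4
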