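import Groth.Agent.CartierEq4.Imperf
import Groth.Agent.NagataLib.IntClosure

/-!
# Intermediate fields of finitely generated extensions
-/

set_option linter.style.haveILetI false

universe u

namespace Groth.Agent.CartierEq4

/-- An intermediate field of a finitely generated field extension is finitely generated. -/
theorem essFiniteType_bot (k K L : Type u) [Field k] [Field K] [Field L]
    [Algebra k K] [Algebra K L] [Algebra k L] [IsScalarTower k K L] [Algebra.EssFiniteType k L] :
    Algebra.EssFiniteType k K := by
  obtain ⟨ι, x, hx⟩ := exists_isTranscendenceBasis' k K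
  have hfin : Finite ι := by
    have h1 : Algebra.trdeg k K ≤ Algebra.trdeg k L :=
      trdeg_le_of_injective (IsScalarTower.toAlgHom k K L) (algebraMap K L).injective
    have h2 : Algebra.trdeg k L < Cardinal.aleph0 := trdeg_lt_aleph0 k L
    rw [← Cardinal.lt_aleph0_iff_finite, hx.cardinalMk_eq_trdeg]
    exact lt_of_le_of_lt h1 h2
  let F := IntermediateField.adjoin k (Set.range x)
  haveI : Algebra.EssFiniteType k F :=
    IntermediateField.essFiniteType_iff.2 (IntermediateField.fg_adjoin_of_finite (Set.finite_range x))
  haveI : Algebra.IsAlgebraic F K := hx.isAlgebraic_field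
  haveI : Algebra.EssFiniteType F L := Algebra.EssFiniteType.of_comp k F L
  let E := (IsScalarTower.toAlgHom F K L).fieldRange
  haveI : Algebra.IsAlgebraic F E :=
    (AlgEquiv.ofInjectiveField (IsScalarTower.toAlgHom F K L)).isAlgebraic
  haveI : FiniteDimensional F E := NagataLib.finiteDimensional_of_isAlgebraic E
  haveI : FiniteDimensional F (IsScalarTower.toAlgHom F K L).range := (inferInstance : FiniteDimensional F E)
  haveI : Module.Finite F K :=
    Module.Finite.of_injective ((IsScalarTower.toAlgHom F K L).rangeRestrict.toLinearMap) (fun a b h =>
      (algebraMap K L).injective (congrArg Subtype.val h))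
  exact Algebra.EssFiniteType.comp k F K

end Groth.Agent.CartierEq4
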