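import Groth.Agent.CartierEq4.Basic
import Groth.Agent.CoeffField.Smooth
import Groth.Prelude.Def_EGA41

/-!
# The imperfection module and the Cartier equality
-/

set_option linter.style.haveILetI false

universe u v

open TensorProduct

namespace Groth.Agent.CartierEq4

/-- The first cotangent homology over `ℤ` of a field dies over any subfield. -/
theorem map_int_eq_zero {K L : Type u} [Field K] [Field L] [Algebra K L] (x : Algebra.H1Cotangent ℤ L) :
    Algebra.H1Cotangent.map ℤ K L L x = 0 := by
  rcases CharP.exists' K with h0 | ⟨p, hp, hk⟩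
  · haveI : CharZero L := charZero_of_injective_ringHom (algebraMap K L).injective
    haveI : IsScalarTower ℚ K L := IsScalarTower.of_algebraMap_eq fun q => (map_ratCast (algebraMap K L) q).symm
    haveI := CoeffField.formallySmooth_of_perfectField ℚ L
    have h1 : Algebra.H1Cotangent.map ℤ ℚ L L x = 0 := Subsingleton.elim _ _
    have h2 : Algebra.H1Cotangent.map ℤ K L L x =
        Algebra.H1Cotangent.map ℚ K L L (Algebra.H1Cotangent.map ℤ ℚ L L x) := by
      rw [Algebra.H1Cotangent.map, Algebra.H1Cotangent.map, Algebra.H1Cotangent.map,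
        ← Algebra.Extension.H1Cotangent.map_comp_apply, Algebra.Extension.H1Cotangent.map_eq]
    rw [h2, h1, map_zero]
  · haveI := hp
    haveI : CharP L p := charP_of_injective_algebraMap (algebraMap K L).injective p
    letI : Algebra (ZMod p) K := ZMod.algebra K p
    letI : Algebra (ZMod p) L := ZMod.algebra L p
    haveI : IsScalarTower (ZMod p) K L := IsScalarTower.of_algebraMap_eq fun q => by
      have h : algebraMap (ZMod p) L = (algebraMap K L).comp (algebraMap (ZMod p) K) := Subsingleton.elim _ _
      exact RingHom.congr_fun h q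
    haveI := CoeffField.formallySmooth_of_perfectField (ZMod p) L
    have h1 : Algebra.H1Cotangent.map ℤ (ZMod p) L L x = 0 := Subsingleton.elim _ _
    have h2 : Algebra.H1Cotangent.map ℤ K L L x =
        Algebra.H1Cotangent.map (ZMod p) K L L (Algebra.H1Cotangent.map ℤ (ZMod p) L L x) := by
      rw [Algebra.H1Cotangent.map, Algebra.H1Cotangent.map, Algebra.H1Cotangent.map,
        ← Algebra.Extension.H1Cotangent.map_comp_apply, Algebra.Extension.H1Cotangent.map_eq]
    rw [h2, h1, map_zero]

theorem range_δ {k : Type v} {K L : Type u} [CommRing k] [CommRing K] [CommRing L] [Algebra k K] [Algebra K L] [Algebra k L]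
    [IsScalarTower k K L] : LinearMap.range (Algebra.H1Cotangent.δ k K L) = EGA41.imperfection k K L :=
  ((LinearMap.exact_iff.1 (Algebra.H1Cotangent.exact_δ_mapBaseChange k K L))).symm

theorem finite_imperfection (k : Type v) (K L : Type u) [CommRing k] [Field K] [Field L] [Algebra k K] [Algebra K L]
    [Algebra k L] [IsScalarTower k K L] [Algebra.EssFiniteType K L] :
    Module.Finite L (EGA41.imperfection k K L) ∧
      Module.finrank L (EGA41.imperfection k K L) ≤ Module.finrank L (Algebra.H1Cotangent K L) := by
  haveI := (finrank_kaehler_eq K L).2.1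
  rw [← range_δ]
  exact ⟨inferInstance, (Algebra.H1Cotangent.δ k K L).finrank_range_le⟩

theorem finrank_imperfection_int (K L : Type u) [Field K] [Field L] [Algebra K L] [Algebra.EssFiniteType K L] :
    Module.finrank L (EGA41.imperfection ℤ K L) = Module.finrank L (Algebra.H1Cotangent K L) := by
  have hinj : Function.Injective (Algebra.H1Cotangent.δ ℤ K L) := by
    rw [injective_iff_map_eq_zero]
    intro x hx
    obtain ⟨y, rfl⟩ := (Algebra.H1Cotangent.exact_map_δ ℤ K L x).1 hx
    exact map_int_eq_zero y
  rw [← range_δ]
  exact LinearMap.finrank_range_of_inj hinj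

/-- Rank inequality in a tower. -/
theorem trdeg_le_finrank_sub {k K L : Type u} [Field k] [Field K] [Field L]
    [Algebra k K] [Algebra K L] [Algebra k L] [IsScalarTower k K L] [Algebra.EssFiniteType K L]
    [Module.Finite L (Ω[L⁄k])] [Module.Finite K (Ω[K⁄k])] :
    Cardinal.toNat (Algebra.trdeg K L) + Module.finrank K (Ω[K⁄k]) ≤ Module.finrank L (Ω[L⁄k]) := by
  obtain ⟨hΩ, hH, heq⟩ := finrank_kaehler_eq K L
  have h1 := (KaehlerDifferential.mapBaseChange k K L).finrank_range_add_finrank_ker
  have h2 := (KaehlerDifferential.map k K L L).finrank_range_add_finrank_ker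
  rw [LinearMap.range_eq_top.2 (KaehlerDifferential.map_surjective k K L), finrank_top] at h2
  rw [← (KaehlerDifferential.exact_mapBaseChange_map k K L).linearMap_ker_eq] at h1
  rw [Module.finrank_baseChange] at h1
  have h3 := (finite_imperfection k K L).2
  have h4 : Module.finrank L (LinearMap.ker (KaehlerDifferential.mapBaseChange k K L)) ≤
      Module.finrank L (Algebra.H1Cotangent K L) := h3
  omega

end Groth.Agent.CartierEq4
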